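import Mathlib.RingTheory.LocalProperties.Reduced
import Mathlib.RingTheory.TensorProduct.MvPolynomial
import Mathlib.RingTheory.Localization.BaseChange
import Mathlib.LinearAlgebra.TensorProduct.RightExactness
import Mathlib.Algebra.MvPolynomial.Nilpotent
import Mathlib.RingTheory.Ideal.Operations
import Mathlib.RingTheory.Localization.Away.Basic

/-!
# The radical of a stable ideal is a subcomodule (980, 2.2; S16912)

`KeepsRed k O`: `C ⊗[k] O` is reduced for every reduced `k`-algebra `C`.  Holds for localized polynomial rings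
(`O(GL_n)`) and tensor products of such.
-/

set_option autoImplicit false
set_option linter.style.haveILetI false

open TensorProduct

namespace Groth.Agent.ResProp.EF.K542

universe u

variable (k : Type u) [CommRing k]

/-- `C ⊗ O` is reduced for all reduced `C`. -/
def KeepsRed (O : Type u) [CommRing O] [Algebra k O] : Prop :=
  ∀ (C : Type u) [CommRing C] [Algebra k C] [IsReduced C], IsReduced (C ⊗[k] O)

variable {k}

theorem KeepsRed.of_equiv {O O' : Type u} [CommRing O] [Algebra k O] [CommRing O'] [Algebra k O']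
    (e : O ≃ₐ[k] O') (h : KeepsRed k O) : KeepsRed k O' := by
  intro C _ _ _
  haveI := h C
  exact isReduced_of_injective
    (Algebra.TensorProduct.congr (AlgEquiv.refl (R := k) (A₁ := C)) e.symm).toAlgHom
    (Algebra.TensorProduct.congr (AlgEquiv.refl (R := k) (A₁ := C)) e.symm).injective

theorem keepsRed_self : KeepsRed k k := by
  intro C _ _ _
  exact isReduced_of_injective (Algebra.TensorProduct.rid k k C).toAlgHom
    (Algebra.TensorProduct.rid k k C).injective

theorem keepsRed_mvPolynomial (σ : Type u) : KeepsRed k (MvPolynomial σ k) := by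
  intro C _ _ _
  exact isReduced_of_injective (MvPolynomial.algebraTensorAlgEquiv (σ := σ) k C).toAlgHom
    (MvPolynomial.algebraTensorAlgEquiv (σ := σ) k C).injective

/-- localizations keep the property -/
theorem KeepsRed.localization {P : Type u} [CommRing P] [Algebra k P] (h : KeepsRed k P)
    (M : Submonoid P) (O : Type u) [CommRing O] [Algebra k O] [Algebra P O] [IsScalarTower k P O]
    [IsLocalization M O] : KeepsRed k O := by
  intro C _ _ _
  haveI := h C
  letI : Algebra (C ⊗[k] P) (C ⊗[k] O) :=
    (Algebra.TensorProduct.map (AlgHom.id C C) (IsScalarTower.toAlgHom k P O)).toRingHom.toAlgebra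
  haveI : IsScalarTower C (C ⊗[k] P) (C ⊗[k] O) := IsScalarTower.of_algebraMap_eq fun c => by
    change _ = (Algebra.TensorProduct.map (AlgHom.id C C) (IsScalarTower.toAlgHom k P O)) (c ⊗ₜ 1)
    simp [Algebra.TensorProduct.algebraMap_apply]
  have hloc : IsLocalization (M.map (Algebra.TensorProduct.includeRight (R := k) (A := C) (B := P)))
      (C ⊗[k] O) := by
    refine IsLocalization.tensorProduct_tensorProduct_right k C M O ?_
    ext x
    change (Algebra.TensorProduct.map (AlgHom.id C C) (IsScalarTower.toAlgHom k P O)) (1 ⊗ₜ x) = _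
    simp
  exact isReduced_localizationPreserves
    (M.map (Algebra.TensorProduct.includeRight (R := k) (A := C) (B := P))) _ inferInstance

theorem KeepsRed.tensor {O₁ O₂ : Type u} [CommRing O₁] [Algebra k O₁] [CommRing O₂] [Algebra k O₂]
    (h₁ : KeepsRed k O₁) (h₂ : KeepsRed k O₂) : KeepsRed k (O₁ ⊗[k] O₂) := by
  intro C _ _ _
  haveI := h₁ C
  haveI := h₂ (C ⊗[k] O₁)
  exact isReduced_of_injective (Algebra.TensorProduct.assoc k k k C O₁ O₂).symm.toAlgHom
    (Algebra.TensorProduct.assoc k k k C O₁ O₂).symm.injective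

theorem eq_zero_of_pow_eq_zero' {R : Type*} [CommRing R] [IsReduced R] {x : R} {n : ℕ} (h : x ^ n = 0) : x = 0 :=
  IsNilpotent.eq_zero ⟨n, h⟩

/-- **(R1)** -/
theorem rho_radical {B O : Type u} [CommRing B] [Algebra k B] [CommRing O] [Algebra k O]
    (hO : KeepsRed k O) (ρ : B →ₐ[k] B ⊗[k] O) (J : Ideal B)
    (hJ : ∀ b ∈ J, ρ b ∈ (J.map (Algebra.TensorProduct.includeLeft (R := k) (S := k) (A := B) (B := O))).radical) :
    ∀ b ∈ J.radical, ρ b ∈
      J.radical.map (Algebra.TensorProduct.includeLeft (R := k) (S := k) (A := B) (B := O)) := by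
  intro b hb
  obtain ⟨n, hn⟩ := hb
  haveI : IsReduced (B ⧸ J.radical) :=
    (Ideal.isRadical_iff_quotient_reduced J.radical).mp (Ideal.radical_isRadical J)
  haveI := hO (B ⧸ J.radical)
  have hker := Algebra.TensorProduct.rTensor_ker (R := k) (C := O) (Ideal.Quotient.mkₐ k J.radical)
    (Ideal.Quotient.mkₐ_surjective k J.radical)
  rw [show RingHom.ker (Ideal.Quotient.mkₐ k J.radical) = J.radical from Ideal.Quotient.mkₐ_ker k _] at hker
  rw [← hker]
  have h1 := hJ _ hn
  rw [map_pow] at h1
  obtain ⟨m, hm⟩ := h1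
  rw [← pow_mul] at hm
  have hm2 : ρ b ^ (n * m) ∈ J.radical.map
      (Algebra.TensorProduct.includeLeft (R := k) (S := k) (A := B) (B := O)) :=
    Ideal.map_mono Ideal.le_radical hm
  rw [← hker, RingHom.mem_ker, map_pow] at hm2
  rw [RingHom.mem_ker]
  exact eq_zero_of_pow_eq_zero' hm2

/-- (R1) as a statement on submodules: `ρ` maps `√J` into the image of `√J ⊗ O`. -/
theorem rho_radical_range {B O : Type u} [CommRing B] [Algebra k B] [CommRing O] [Algebra k O]
    (hO : KeepsRed k O) (ρ : B →ₐ[k] B ⊗[k] O) (J : Ideal B)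
    (hJ : ∀ b ∈ J, ρ b ∈ (J.map (Algebra.TensorProduct.includeLeft (R := k) (S := k) (A := B) (B := O))).radical)
    {b : B} (hb : b ∈ J.radical) :
    ρ b ∈ LinearMap.range (LinearMap.rTensor O (Submodule.subtype (J.radical.restrictScalars k))) := by
  have h := rho_radical hO ρ J hJ b hb
  have h2 := Ideal.map_includeLeft_eq (R := k) (A := B) (B := O) J.radical
  rw [← h2]
  exact h

/-- localized polynomial rings keep reducedness, e.g. `O(GL_n)`. -/
theorem keepsRed_localization_mvPolynomial (σ : Type u) (M : Submonoid (MvPolynomial σ k)) :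
    KeepsRed k (Localization M) :=
  (keepsRed_mvPolynomial (k := k) σ).localization M _

theorem keepsRed_away_mvPolynomial (σ : Type u) (f : MvPolynomial σ k) (O : Type u) [CommRing O]
    [Algebra k O] [Algebra (MvPolynomial σ k) O] [IsScalarTower k (MvPolynomial σ k) O]
    [IsLocalization.Away f O] : KeepsRed k O :=
  (keepsRed_mvPolynomial (k := k) σ).localization (Submonoid.powers f) O

end Groth.Agent.ResProp.EF.K542
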